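import Groth.Agent.Hensel1.Normal
import Mathlib.RingTheory.Etale.Descent
import Mathlib.RingTheory.Etale.Pi
import Mathlib.RingTheory.Finiteness.Descent
import Mathlib.RingTheory.Flat.FaithfullyFlat.Basic
import Mathlib.RingTheory.Localization.BaseChange

/-!
# Finite étale algebras over the fraction field which split over a strict henselization

If `A` is a normal domain and a finite étale algebra `E` over `Frac A` becomes split over the
fraction field of a faithfully flat normal algebraic extension `R` for which integral closure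
commutes with base change, then the integral closure of `A` in `E` is finite étale over `A`.
-/

set_option autoImplicit false

namespace Groth.Misc12.SplitExt

open Groth.Hensel1 TensorProduct Polynomial

universe u

variable {A : Type u} [CommRing A] [IsDomain A]

/-- Elements of a henselization of a domain are algebraic over it. -/
theorem isAlgebraic_hens (Ω : Type u) [Field Ω] [Algebra A Ω] :
    Algebra.IsAlgebraic A (Hens A Ω) := ⟨fun x => by
  obtain ⟨i, z, rfl⟩ := Hens.exists_of x
  let K := FractionRing A
  have : Algebra.FormallyEtale i.P.Ring i.Obj :=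
    Algebra.FormallyEtale.of_isLocalization i.q.primeCompl
  have : Algebra.FormallyUnramified A i.Obj := Algebra.FormallyUnramified.comp A i.P.Ring i.Obj
  have : Algebra.EssFiniteType i.P.Ring i.Obj := .of_isLocalization _ i.q.primeCompl
  have : Algebra.EssFiniteType A i.Obj := .comp A i.P.Ring i.Obj
  have : Module.Flat i.P.Ring i.Obj := IsLocalization.flat _ i.q.primeCompl
  have : Module.Flat A i.Obj := Module.Flat.trans A i.P.Ring i.Obj
  have : Module.Finite K (K ⊗[A] i.Obj) := Algebra.FormallyUnramified.finite_of_free K _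
  have hinj : Function.Injective
      (Algebra.TensorProduct.includeRight : i.Obj →ₐ[A] K ⊗[A] i.Obj) :=
    Algebra.TensorProduct.includeRight_injective (IsFractionRing.injective A K)
  have h1 : IsAlgebraic K (Algebra.TensorProduct.includeRight (R := A) (A := K) z) :=
    (Algebra.IsIntegral.isIntegral _).isAlgebraic
  have h2 : IsAlgebraic A (Algebra.TensorProduct.includeRight (R := A) (A := K) z) :=
    (IsFractionRing.isAlgebraic_iff A K _).mpr h1
  exact ((isAlgebraic_algHom_iff _ hinj).mp h2).algHom (Hens.of i)⟩

variable [IsIntegrallyClosed A]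

omit [IsDomain A] [IsIntegrallyClosed A] in
/-- Integral closure commutes with base change to a henselization. -/
theorem mem_range_of_isIntegral_hens (Ω : Type u) [Field Ω] [Algebra A Ω] (E : Type u) [CommRing E]
    [Algebra A E] [Module.Flat A E] (x : Hens A Ω ⊗[A] E) (hx : IsIntegral (Hens A Ω) x) :
    x ∈ Set.range (Algebra.TensorProduct.map (AlgHom.id A (Hens A Ω)) (integralClosure A E).val) := by
  classical
  obtain ⟨S, hS⟩ := TensorProduct.exists_finset x
  obtain ⟨p, hp, hp0⟩ := hx
  obtain ⟨i, z, hz⟩ := Hens.exists_of_fintype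
    (Sum.elim (fun s : S => s.1.1) (fun k : Fin p.natDegree => p.coeff k))
  let φ : i.Obj ⊗[A] E →ₐ[A] Hens A Ω ⊗[A] E :=
    Algebra.TensorProduct.map (Hens.of i) (AlgHom.id A E)
  have hφ : Function.Injective φ :=
    Module.Flat.rTensor_preserves_injective_linearMap (M := E) (Hens.of i).toLinearMap
      (Hens.injective_of i)
  let y : i.Obj ⊗[A] E := ∑ s : S, z (.inl s) ⊗ₜ s.1.2
  have hy : φ y = x := by
    rw [hS, ← Finset.sum_coe_sort]
    simp only [y, map_sum, φ, Algebra.TensorProduct.map_tmul, AlgHom.id_apply, hz, Sum.elim_inl]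
  set q : i.Obj[X] := X ^ p.natDegree + ∑ k : Fin p.natDegree, C (z (.inr k)) * X ^ (k : ℕ) with hq
  have hqm : q.Monic := (monic_X_pow _).add_of_left
    (lt_of_lt_of_le (degree_sum_fin_lt _) (degree_X_pow _).ge)
  have hqp : q.map (Hens.of i).toRingHom = p := by
    have hk : ∀ k, (Hens.of i).toRingHom (z (.inr k)) = p.coeff (k : ℕ) := fun k => hz _
    simp only [hq, Polynomial.map_add, Polynomial.map_pow, map_X, Polynomial.map_sum,
      Polynomial.map_mul, map_C, hk]
    conv_rhs => rw [hp.as_sum, ← Fin.sum_univ_eq_sum_range (fun k => C (p.coeff k) * X ^ k)]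
  have hcomp : φ.toRingHom.comp (algebraMap i.Obj (i.Obj ⊗[A] E)) =
      (algebraMap (Hens A Ω) (Hens A Ω ⊗[A] E)).comp (Hens.of i).toRingHom := by
    ext w
    simp [φ, Algebra.TensorProduct.algebraMap_apply]
  have hyint : IsIntegral i.Obj y := by
    refine ⟨q, hqm, hφ ?_⟩
    show φ.toRingHom (eval₂ (algebraMap i.Obj _) y q) = φ 0
    rw [hom_eval₂, hcomp, ← eval₂_map, hqp, map_zero]
    show eval₂ _ (φ y) p = 0
    rw [hy]
    exact hp0
  have : Algebra.EssFiniteType i.P.Ring i.Obj := .of_isLocalization _ i.q.primeCompl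
  have hbij : Function.Bijective (TensorProduct.toIntegralClosure A i.Obj E) :=
    TensorProduct.toIntegralClosure_bijective_of_tower (S := i.P.Ring)
      TensorProduct.toIntegralClosure_bijective_of_smooth
      (TensorProduct.toIntegralClosure_bijective_of_isLocalization i.q.primeCompl)
  obtain ⟨w, hw⟩ := hbij.2 ⟨y, hyint⟩
  refine ⟨Algebra.TensorProduct.map (Hens.of i) (AlgHom.id A _) w, ?_⟩
  rw [← hy, show y = (TensorProduct.toIntegralClosure A i.Obj E w : i.Obj ⊗[A] E) from
    (congrArg Subtype.val hw).symm]
  clear hw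
  induction w with
  | zero => simp
  | tmul l b =>
    rw [Algebra.TensorProduct.map_tmul, Algebra.TensorProduct.map_tmul]
    rfl
  | add w₁ w₂ h₁ h₂ => simp only [map_add, Subalgebra.coe_add, h₁, h₂]

/-- The main algebraic statement. -/
theorem finite_etale_integralClosure (R : Type u) [CommRing R] [IsDomain R] [IsIntegrallyClosed R]
    [Algebra A R] [Module.FaithfullyFlat A R] [Algebra.IsAlgebraic A R]
    (hR : ∀ (E : Type u) [CommRing E] [Algebra A E] [Module.Flat A E] (x : R ⊗[A] E),
      IsIntegral R x →
        x ∈ Set.range (Algebra.TensorProduct.map (AlgHom.id A R) (integralClosure A E).val))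
    (K L : Type u) [Field K] [Field L] [Algebra A K] [IsFractionRing A K] [Algebra R L]
    [IsFractionRing R L] [Algebra K L] [Algebra A L] [IsScalarTower A K L] [IsScalarTower A R L]
    (E : Type u) [CommRing E] [Algebra K E] [Module.Finite K E] [Algebra A E]
    [IsScalarTower A K E] {ι : Type u} [Finite ι] (e : L ⊗[K] E ≃ₐ[L] (ι → L)) :
    Module.Finite A (integralClosure A E) ∧ Algebra.Etale A (integralClosure A E) ∧
      Nonempty (K ⊗[A] integralClosure A E ≃ₐ[K] E) := by
  classical
  have : Module.Flat A K := IsLocalization.flat _ (nonZeroDivisors A)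
  have : Module.Flat A E := Module.Flat.trans A K E
  set B := integralClosure A E with hB
  let ψ : E →ₐ[A] (ι → L) :=
    (e.toAlgHom.restrictScalars A).comp
      ((Algebra.TensorProduct.includeRight : E →ₐ[K] L ⊗[K] E).restrictScalars A)
  let Θ : R ⊗[A] E →ₐ[R] (ι → L) :=
    Algebra.TensorProduct.lift (Algebra.ofId R (ι → L)) ψ (fun _ _ => Commute.all _ _)
  have hΘ : ∀ r v, Θ (r ⊗ₜ v) = e (algebraMap R L r ⊗ₜ v) := fun r v => by
    have : algebraMap R L r ⊗ₜ[K] v = algebraMap R L r • ((1 : L) ⊗ₜ[K] v) := by
      rw [TensorProduct.smul_tmul', smul_eq_mul, mul_one]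
    rw [this, map_smul]
    show algebraMap R (ι → L) r * ψ v = _
    rw [Algebra.smul_def]
    rfl
  -- injectivity
  have hΘinj : Function.Injective Θ := by
    have := IsLocalization.tensorProduct_compatibleSMul (nonZeroDivisors A) K L E
    let c : L ⊗[A] E →ₗ[A] L ⊗[K] E := TensorProduct.mapOfCompatibleSMul K A A L E
    have hc : Function.Bijective c :=
      (TensorProduct.equivOfCompatibleSMul K A A L E).bijective
    have hm : Function.Injective
        (((IsScalarTower.toAlgHom A R L).toLinearMap).rTensor E) :=
      Module.Flat.rTensor_preserves_injective_linearMap _ (IsFractionRing.injective R L)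
    have : ∀ x, Θ x = e (c (((IsScalarTower.toAlgHom A R L).toLinearMap).rTensor E x)) := by
      intro x
      induction x with
      | zero => simp
      | tmul r v => rw [hΘ]; rfl
      | add a b ha hb => rw [map_add, ha, hb, map_add, map_add, map_add]
    intro x₁ x₂ h
    rw [this, this] at h
    exact hm (hc.1 (e.injective h))
  -- surjectivity
  have hΘsurj : Function.Surjective Θ := by
    intro f
    obtain ⟨t, rfl⟩ := e.surjective f
    induction t with
    | zero => exact ⟨0, by simp⟩
    | tmul l v =>
      obtain ⟨r, s, hs, rfl⟩ := IsFractionRing.div_surjective (A := R) l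
      obtain ⟨a, ha, r', hr'⟩ := (Algebra.IsAlgebraic.isAlgebraic (R := A) s).exists_nonzero_dvd hs
      refine ⟨(r * r') ⊗ₜ ((algebraMap A K a)⁻¹ • v), ?_⟩
      rw [hΘ, ← TensorProduct.smul_tmul, Algebra.smul_def, map_inv₀,
        ← IsScalarTower.algebraMap_apply A K L, IsScalarTower.algebraMap_apply A R L, hr', map_mul,
        map_mul]
      have hs0 : algebraMap R L s ≠ 0 :=
        (map_ne_zero_iff _ (IsFractionRing.injective R L)).mpr (nonZeroDivisors.ne_zero hs)
      have hr0 : algebraMap R L r' ≠ 0 := by
        refine (map_ne_zero_iff _ (IsFractionRing.injective R L)).mpr fun h => ha ?_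
        apply FaithfulSMul.algebraMap_injective A R
        rw [hr', h, mul_zero, map_zero]
      congr 2
      field_simp
    | add a b ha hb =>
      obtain ⟨x, hx⟩ := ha; obtain ⟨y, hy⟩ := hb
      exact ⟨x + y, by rw [map_add, hx, hy, map_add]⟩
  -- the integral closure becomes split
  let Φ : R ⊗[A] B →ₐ[R] (ι → L) :=
    Θ.comp (Algebra.TensorProduct.map (AlgHom.id R R) B.val)
  have hΦinj : Function.Injective Φ := hΘinj.comp
    (Module.Flat.lTensor_preserves_injective_linearMap B.val.toLinearMap Subtype.val_injective)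
  let Ψ : (ι → R) →ₐ[R] (ι → L) := (Algebra.ofId R L).compLeft ι
  have hΨinj : Function.Injective Ψ := fun f g h => funext fun i =>
    IsFractionRing.injective R L (congrFun h i)
  have hle : Φ.range ≤ Ψ.range := by
    rintro _ ⟨w, rfl⟩
    induction w with
    | zero => exact ⟨0, by simp⟩
    | tmul r b =>
      have hint : ∀ i, IsIntegral R (ψ b.1 i) := fun i =>
        ((b.2.map ψ).map (Pi.evalAlgHom A (fun _ : ι => L) i)).tower_top
      choose g hg using fun i => IsIntegrallyClosed.algebraMap_eq_of_integral (hint i)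
      refine ⟨fun i => r * g i, ?_⟩
      funext i
      show algebraMap R L (r * g i) = Φ (r ⊗ₜ b) i
      rw [map_mul, hg]
      rfl
    | add a b ha hb => rw [map_add]; exact add_mem ha hb
  have hge : Ψ.range ≤ Φ.range := by
    cases nonempty_fintype ι
    rintro _ ⟨f, rfl⟩
    change Ψ f ∈ Φ.range
    rw [show f = ∑ i, f i • (Pi.single i 1 : ι → R) from pi_eq_sum_univ' f, map_sum]
    refine sum_mem fun i _ => ?_
    rw [map_smul]
    refine Subalgebra.smul_mem _ ?_ _
    obtain ⟨x, hx⟩ := hΘsurj (Ψ (Pi.single i 1))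
    have hidem : IsIdempotentElem (Pi.single i 1 : ι → R) := by
      show Pi.single i 1 * Pi.single i 1 = (Pi.single i 1 : ι → R)
      rw [← Pi.single_mul, one_mul]
    have hxint : IsIntegral R x := (isIntegral_algHom_iff Θ hΘinj).mp (by
      rw [hx]
      exact ⟨X ^ 2 - X, monic_X_pow_sub (n := 2) (degree_X_le.trans_lt (by norm_num)),
        by simp [pow_two, (hidem.map Ψ).eq]⟩)
    obtain ⟨w, hw⟩ := hR E x hxint
    refine ⟨w, ?_⟩
    change Φ w = Ψ (Pi.single i 1)
    rw [← hx, ← hw]
    clear hw
    induction w with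
    | zero => simp
    | tmul r b => rfl
    | add a b ha hb => simp only [map_add, ← ha, ← hb]
  let ε : R ⊗[A] B ≃ₐ[R] (ι → R) :=
    (AlgEquiv.ofInjective Φ hΦinj).trans
      ((Subalgebra.equivOfEq _ _ (le_antisymm hle hge)).trans (AlgEquiv.ofInjective Ψ hΨinj).symm)
  have : Module.Finite R (R ⊗[A] B) := Module.Finite.equiv ε.symm.toLinearEquiv
  have hfin : Module.Finite A B := Module.Finite.of_finite_tensorProduct_of_faithfullyFlat R
  have : Algebra.Etale R (R ⊗[A] B) := Algebra.Etale.of_equiv ε.symm
  have het : Algebra.Etale A B := Algebra.Etale.of_etale_tensorProduct_of_faithfullyFlat (T := R)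
  refine ⟨hfin, het, ?_⟩
  let μ : K ⊗[A] B →ₐ[K] E :=
    Algebra.TensorProduct.lift (Algebra.ofId K E) B.val (fun _ _ => Commute.all _ _)
  refine ⟨AlgEquiv.ofBijective μ ⟨?_, fun v => ?_⟩⟩
  · have := IsLocalization.tensorProduct_compatibleSMul (nonZeroDivisors A) K K E
    let c : K ⊗[A] E →ₗ[A] K ⊗[K] E := TensorProduct.mapOfCompatibleSMul K A A K E
    have hc : Function.Bijective c :=
      (TensorProduct.equivOfCompatibleSMul K A A K E).bijective
    have hm : Function.Injective (B.val.toLinearMap.lTensor K) :=
      Module.Flat.lTensor_preserves_injective_linearMap _ Subtype.val_injective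
    have : ∀ x, μ x = TensorProduct.lid K E (c (B.val.toLinearMap.lTensor K x)) := by
      intro x
      induction x with
      | zero => simp
      | tmul k b =>
        show algebraMap K E k * b.1 = k • b.1
        rw [Algebra.smul_def]
      | add a b ha hb => rw [map_add, ha, hb, map_add, map_add, map_add]
    intro x₁ x₂ h
    rw [this, this] at h
    exact hm (hc.1 ((TensorProduct.lid K E).injective h))
  · obtain ⟨⟨a, ha⟩, hav⟩ := (Algebra.IsIntegral.isIntegral (R := K) v).exists_multiple_integral_of_isLocalization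
      (nonZeroDivisors A) v
    refine ⟨(algebraMap A K a)⁻¹ ⊗ₜ ⟨a • v, hav⟩, ?_⟩
    show algebraMap K E (algebraMap A K a)⁻¹ * (a • v) = v
    rw [Algebra.smul_def, IsScalarTower.algebraMap_apply A K E, ← mul_assoc, ← map_mul,
      inv_mul_cancel₀, map_one, one_mul]
    exact (map_ne_zero_iff _ (IsFractionRing.injective A K)).mpr (nonZeroDivisors.ne_zero ha)

end Groth.Misc12.SplitExt
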